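import Mathlib
import Groth.Prelude.Def_GLin
import Groth.Prelude.Def_W4c6stackyreslrsPsRefl
import Groth.Agent.Lib.Helper9.Comod

/-!
# The fixer of a set of vectors of a comodule is a closed subgroup scheme (helper6)

For a comodule `B` over a commutative Hopf algebra `A` over a field `k` and a set `V ⊆ B`, the
ideal `fixerIdeal k A V` generated by the matrix coefficients `(φ ⊗ id)(ρ v - v ⊗ 1)`
(`φ ∈ B^*`, `v ∈ V`) is the smallest ideal `I` such that every `v ∈ V` is invariant under the
closed subscheme `V(I)`, and it is a Hopf ideal (the fixer of `V` is a subgroup).  As a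
consequence the invariants of the subgroup generated by a family of subgroups are the common
invariants of the family.
-/

set_option backward.isDefEq.respectTransparency.types false
set_option autoImplicit false
set_option linter.unusedSectionVars false
set_option linter.unusedVariables false
set_option linter.style.haveILetI false
set_option linter.unusedSimpArgs false
set_option maxHeartbeats 800000
set_option synthInstance.maxHeartbeats 400000

noncomputable section

namespace Groth.Agent.Helper6.Fixer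

open TensorProduct

universe u v w w'

section Sl

variable {k : Type u} [CommRing k] {B : Type w} [AddCommGroup B] [Module k B]
variable {M : Type v} [AddCommGroup M] [Module k M] {M' : Type w'} [AddCommGroup M'] [Module k M']

/-- `(φ ⊗ id) : B ⊗ M → M` -/
def sl (φ : B →ₗ[k] k) : B ⊗[k] M →ₗ[k] M :=
  (TensorProduct.lid k M).toLinearMap ∘ₗ LinearMap.rTensor M φ

theorem sl_tmul (φ : B →ₗ[k] k) (b : B) (m : M) : sl φ (b ⊗ₜ[k] m) = φ b • m := by
  simp only [sl, LinearMap.comp_apply, LinearMap.rTensor_tmul, LinearEquiv.coe_coe,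
    TensorProduct.lid_tmul]

theorem sl_lTensor (φ : B →ₗ[k] k) (g : M →ₗ[k] M') (t : B ⊗[k] M) :
    sl φ (LinearMap.lTensor B g t) = g (sl φ t) := by
  induction t using TensorProduct.induction_on with
  | zero => simp only [map_zero]
  | tmul b m => rw [LinearMap.lTensor_tmul, sl_tmul, sl_tmul, map_smul]
  | add s t hs ht => simp only [map_add, hs, ht]

theorem slice_comm (φ : B →ₗ[k] k) (t : B ⊗[k] M) :
    Groth.Agent.Helper9.slice φ (TensorProduct.comm k B M t) = sl φ t := by
  induction t using TensorProduct.induction_on with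
  | zero => simp only [map_zero]
  | tmul b m => rw [TensorProduct.comm_tmul, Groth.Agent.Helper9.slice_tmul, sl_tmul]
  | add s t hs ht => simp only [map_add, hs, ht]

theorem eq_zero_of_forall_sl [Module.Free k B] (t : B ⊗[k] M)
    (h : ∀ φ : B →ₗ[k] k, sl φ t = 0) : t = 0 := by
  apply (TensorProduct.comm k B M).injective
  rw [map_zero]
  apply Groth.Agent.Helper9.eq_zero_of_slice_eq_zero
  intro φ
  rw [slice_comm, h φ]

end Sl

section Nat

variable {k : Type u} [CommRing k] {B : Type w} [AddCommGroup B] [Module k B]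
variable {A : Type v} [AddCommGroup A] [Module k A] {Q : Type w'} [AddCommGroup Q] [Module k Q]

/-- naturality of the associator -/
theorem assoc_map (f g : A →ₗ[k] Q) (t : (B ⊗[k] A) ⊗[k] A) :
    TensorProduct.assoc k B Q Q (TensorProduct.map (LinearMap.lTensor B f) g t) =
      LinearMap.lTensor B (TensorProduct.map f g) (TensorProduct.assoc k B A A t) := by
  induction t using TensorProduct.induction_on with
  | zero => simp only [map_zero]
  | tmul s a =>
    induction s using TensorProduct.induction_on with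
    | zero => simp only [TensorProduct.zero_tmul, map_zero]
    | tmul b a' =>
      rw [TensorProduct.map_tmul, LinearMap.lTensor_tmul, TensorProduct.assoc_tmul,
        TensorProduct.assoc_tmul, LinearMap.lTensor_tmul, TensorProduct.map_tmul]
    | add s₁ s₂ h₁ h₂ => simp only [TensorProduct.add_tmul, map_add, h₁, h₂]
  | add s t hs ht => simp only [map_add, hs, ht]

theorem map_rTensor (r : B →ₗ[k] B ⊗[k] A) (f g : A →ₗ[k] Q) (s : B ⊗[k] A) :
    TensorProduct.map (LinearMap.lTensor B f) g (LinearMap.rTensor A r s) =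
      LinearMap.rTensor Q (LinearMap.lTensor B f ∘ₗ r) (LinearMap.lTensor B g s) := by
  induction s using TensorProduct.induction_on with
  | zero => simp only [map_zero]
  | tmul b a =>
    rw [LinearMap.rTensor_tmul, TensorProduct.map_tmul, LinearMap.lTensor_tmul,
      LinearMap.rTensor_tmul, LinearMap.comp_apply]
  | add s t hs ht => simp only [map_add, hs, ht]

end Nat

section Pt

variable {k : Type u} [CommRing k] {A : Type v} [CommRing A] [HopfAlgebra k A]
variable {B : Type w} [AddCommGroup B] [Module k B] [HopfRep.Comod k A B]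
variable {Q : Type w'} [CommRing Q] [Algebra k Q]

theorem coassoc_apply (v : B) :
    TensorProduct.assoc k B A A (LinearMap.rTensor A (HopfRep.Comod.coact (k := k) (A := A))
      (HopfRep.Comod.coact (k := k) (A := A) v)) =
      LinearMap.lTensor B (Coalgebra.comul (R := k) (A := A))
        (HopfRep.Comod.coact (k := k) (A := A) v) :=
  LinearMap.congr_fun (HopfRep.Comod.coassoc (k := k) (A := A) (V := B)) v

theorem counit_apply (v : B) :
    LinearMap.lTensor B (Coalgebra.counit (R := k) (A := A))
      (HopfRep.Comod.coact (k := k) (A := A) v) = v ⊗ₜ[k] (1 : k) :=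
  LinearMap.congr_fun (HopfRep.Comod.counit_comp (k := k) (A := A) (V := B)) v

/-- the `Q`-points fixing `v` are closed under multiplication -/
theorem lTensor_map_comul_of_fixed (p : A →ₐ[k] Q) (v : B)
    (hv : LinearMap.lTensor B p.toLinearMap (HopfRep.Comod.coact (k := k) (A := A) v) =
      v ⊗ₜ[k] (1 : Q)) :
    LinearMap.lTensor B
      (TensorProduct.map p.toLinearMap p.toLinearMap ∘ₗ Coalgebra.comul (R := k) (A := A))
      (HopfRep.Comod.coact (k := k) (A := A) v) = v ⊗ₜ[k] ((1 : Q) ⊗ₜ[k] (1 : Q)) := by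
  rw [LinearMap.lTensor_comp_apply, ← coassoc_apply, ← assoc_map, map_rTensor, hv,
    LinearMap.rTensor_tmul, LinearMap.comp_apply, hv, TensorProduct.assoc_tmul]

theorem mul_map_antipode (p : A →ₐ[k] Q) (t : A ⊗[k] A) :
    LinearMap.mul' k Q (TensorProduct.map (p.toLinearMap ∘ₗ HopfAlgebra.antipode k (A := A))
      p.toLinearMap t) =
      p (LinearMap.mul' k A (LinearMap.rTensor A (HopfAlgebra.antipode k (A := A)) t)) := by
  induction t using TensorProduct.induction_on with
  | zero => simp only [map_zero]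
  | tmul a a' =>
    rw [TensorProduct.map_tmul, LinearMap.mul'_apply, LinearMap.rTensor_tmul,
      LinearMap.mul'_apply, map_mul, LinearMap.comp_apply, AlgHom.toLinearMap_apply,
      AlgHom.toLinearMap_apply]
  | add s t hs ht => simp only [map_add, hs, ht]

theorem mul_map_antipode_comul (p : A →ₐ[k] Q) (a : A) :
    LinearMap.mul' k Q (TensorProduct.map (p.toLinearMap ∘ₗ HopfAlgebra.antipode k (A := A))
      p.toLinearMap (Coalgebra.comul (R := k) a)) =
      algebraMap k Q (Coalgebra.counit (R := k) a) := by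
  rw [mul_map_antipode, HopfAlgebra.mul_antipode_rTensor_comul_apply, AlgHom.commutes]

/-- the `Q`-points fixing `v` are closed under inversion -/
theorem lTensor_antipode_of_fixed (p : A →ₐ[k] Q) (v : B)
    (hv : LinearMap.lTensor B p.toLinearMap (HopfRep.Comod.coact (k := k) (A := A) v) =
      v ⊗ₜ[k] (1 : Q)) :
    LinearMap.lTensor B (p.toLinearMap ∘ₗ HopfAlgebra.antipode k (A := A))
      (HopfRep.Comod.coact (k := k) (A := A) v) = v ⊗ₜ[k] (1 : Q) := by
  obtain ⟨pS, hpS⟩ : ∃ pS : A →ₗ[k] Q,
      pS = p.toLinearMap ∘ₗ HopfAlgebra.antipode k (A := A) := ⟨_, rfl⟩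
  obtain ⟨Φ, hΦ⟩ : ∃ Φ : B ⊗[k] Q →ₗ[k] B ⊗[k] Q,
      Φ = LinearMap.lTensor B (LinearMap.mul' k Q) ∘ₗ (TensorProduct.assoc k B Q Q).toLinearMap ∘ₗ
        LinearMap.rTensor Q (LinearMap.lTensor B pS ∘ₗ HopfRep.Comod.coact (k := k) (A := A)) :=
    ⟨_, rfl⟩
  have hunit : ∀ s : B ⊗[k] Q, LinearMap.lTensor B (LinearMap.mul' k Q)
      (TensorProduct.assoc k B Q Q (s ⊗ₜ[k] (1 : Q))) = s := by
    intro s
    induction s using TensorProduct.induction_on with
    | zero => simp only [TensorProduct.zero_tmul, map_zero]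
    | tmul b q =>
      rw [TensorProduct.assoc_tmul, LinearMap.lTensor_tmul, LinearMap.mul'_apply, mul_one]
    | add s t hs ht => simp only [TensorProduct.add_tmul, map_add, hs, ht]
  have hF1 : Φ (v ⊗ₜ[k] (1 : Q)) =
      LinearMap.lTensor B pS (HopfRep.Comod.coact (k := k) (A := A) v) := by
    rw [hΦ, LinearMap.comp_apply, LinearMap.comp_apply, LinearMap.rTensor_tmul,
      LinearMap.comp_apply, LinearEquiv.coe_coe, hunit]
  have hcomp : ∀ x : B ⊗[k] A, LinearMap.lTensor B (LinearMap.mul' k Q)
      (LinearMap.lTensor B (TensorProduct.map pS p.toLinearMap)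
        (LinearMap.lTensor B (Coalgebra.comul (R := k) (A := A)) x)) =
      LinearMap.lTensor B (Algebra.linearMap k Q)
        (LinearMap.lTensor B (Coalgebra.counit (R := k) (A := A)) x) := by
    intro x
    induction x using TensorProduct.induction_on with
    | zero => simp only [map_zero]
    | tmul b a =>
      rw [LinearMap.lTensor_tmul, LinearMap.lTensor_tmul, LinearMap.lTensor_tmul,
        LinearMap.lTensor_tmul, LinearMap.lTensor_tmul, hpS, mul_map_antipode_comul,
        Algebra.linearMap_apply]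
    | add s t hs ht => simp only [map_add, hs, ht]
  have hF2 : Φ (LinearMap.lTensor B p.toLinearMap (HopfRep.Comod.coact (k := k) (A := A) v)) =
      v ⊗ₜ[k] (1 : Q) := by
    rw [hΦ, LinearMap.comp_apply, LinearMap.comp_apply, ← map_rTensor, LinearEquiv.coe_coe,
      assoc_map, coassoc_apply, hcomp, counit_apply, LinearMap.lTensor_tmul,
      Algebra.linearMap_apply, map_one]
  have h1 : LinearMap.lTensor B pS (HopfRep.Comod.coact (k := k) (A := A) v) =
      Φ (v ⊗ₜ[k] (1 : Q)) := hF1.symm
  have h2 : Φ (v ⊗ₜ[k] (1 : Q)) =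
      Φ (LinearMap.lTensor B p.toLinearMap (HopfRep.Comod.coact (k := k) (A := A) v)) := by
    rw [hv]
  rw [← hpS, h1, h2, hF2]

end Pt

section Ideal

variable {k : Type u} [Field k] {A : Type v} [CommRing A] [HopfAlgebra k A]
variable {B : Type w} [AddCommGroup B] [Module k B] [HopfRep.Comod k A B]

variable (k A) in
/-- `ρ v - v ⊗ 1` -/
def cc (v : B) : B ⊗[k] A := HopfRep.Comod.coact (k := k) (A := A) v - v ⊗ₜ[k] (1 : A)

theorem lTensor_cc {Q : Type w'} [AddCommGroup Q] [Module k Q] (g : A →ₗ[k] Q) (v : B) :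
    LinearMap.lTensor B g (cc k A v) =
      LinearMap.lTensor B g (HopfRep.Comod.coact (k := k) (A := A) v) - v ⊗ₜ[k] g 1 := by
  rw [cc, map_sub, LinearMap.lTensor_tmul]

theorem lTensor_mk_eq_zero_iff (I : Ideal A) (t : B ⊗[k] A) :
    LinearMap.lTensor B (Ideal.Quotient.mkₐ k I).toLinearMap t = 0 ↔
      ∀ φ : B →ₗ[k] k, sl φ t ∈ I := by
  constructor
  · intro h φ
    have h1 := sl_lTensor φ (Ideal.Quotient.mkₐ k I).toLinearMap t
    rw [h, map_zero] at h1
    have h2 : Ideal.Quotient.mk I (sl φ t) = 0 := h1.symm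
    exact Ideal.Quotient.eq_zero_iff_mem.mp h2
  · intro h
    apply eq_zero_of_forall_sl
    intro φ
    rw [sl_lTensor]
    exact Ideal.Quotient.eq_zero_iff_mem.mpr (h φ)

theorem mem_quotInvariants_iff_sl (I : Ideal A) (v : B) :
    v ∈ GLin.quotInvariants k A B I ↔ ∀ φ : B →ₗ[k] k, sl φ (cc k A v) ∈ I := by
  rw [GLin.mem_quotInvariants_iff, ← lTensor_mk_eq_zero_iff, lTensor_cc, sub_eq_zero]
  have h1 : (Ideal.Quotient.mkₐ k I).toLinearMap (1 : A) = 1 := map_one (Ideal.Quotient.mkₐ k I)
  rw [h1]

variable (k A) in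
/-- the ideal of the fixer of `V` -/
def fixerIdeal (V : Set B) : Ideal A :=
  Ideal.span {a : A | ∃ v ∈ V, ∃ φ : B →ₗ[k] k, a = sl φ (cc k A v)}

theorem mem_quotInvariants_fixerIdeal {V : Set B} {v : B} (hv : v ∈ V) :
    v ∈ GLin.quotInvariants k A B (fixerIdeal k A V) :=
  (mem_quotInvariants_iff_sl _ v).mpr (fun φ => Ideal.subset_span ⟨v, hv, φ, rfl⟩)

theorem fixerIdeal_le {V : Set B} (I : Ideal A)
    (h : ∀ v ∈ V, v ∈ GLin.quotInvariants k A B I) : fixerIdeal k A V ≤ I := by
  apply Ideal.span_le.mpr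
  rintro a ⟨v, hv, φ, rfl⟩
  exact (mem_quotInvariants_iff_sl I v).mp (h v hv) φ

theorem quotInvariants_mono {I I' : Ideal A} (h : I ≤ I') :
    GLin.quotInvariants k A B I ≤ GLin.quotInvariants k A B I' := by
  intro v hv
  exact (mem_quotInvariants_iff_sl I' v).mpr
    (fun φ => h ((mem_quotInvariants_iff_sl I v).mp hv φ))

theorem fixerIdeal_isHopfIdeal (V : Set B) : (fixerIdeal k A V).IsHopfIdeal k := by
  obtain ⟨K, hK⟩ : ∃ K : Ideal A, K = fixerIdeal k A V := ⟨_, rfl⟩
  rw [← hK]
  obtain ⟨p, hp⟩ : ∃ p : A →ₐ[k] A ⧸ K, p = Ideal.Quotient.mkₐ k K := ⟨_, rfl⟩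
  have hfix : ∀ v ∈ V, LinearMap.lTensor B p.toLinearMap
      (HopfRep.Comod.coact (k := k) (A := A) v) = v ⊗ₜ[k] (1 : A ⧸ K) := by
    intro v hv
    have h1 := mem_quotInvariants_fixerIdeal (k := k) (A := A) hv
    rw [← hK, GLin.mem_quotInvariants_iff] at h1
    rw [hp]
    exact h1
  have hgen_counit : ∀ v ∈ V, ∀ φ : B →ₗ[k] k,
      Coalgebra.counit (R := k) (sl φ (cc k A v)) = 0 := by
    intro v hv φ
    rw [← sl_lTensor, lTensor_cc, counit_apply, Bialgebra.counit_one, sub_self, map_zero]
  have hgen_anti : ∀ v ∈ V, ∀ φ : B →ₗ[k] k,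
      p (HopfAlgebra.antipode k (sl φ (cc k A v))) = 0 := by
    intro v hv φ
    have h1 : p (HopfAlgebra.antipode k (sl φ (cc k A v))) =
        (p.toLinearMap ∘ₗ HopfAlgebra.antipode k (A := A)) (sl φ (cc k A v)) := rfl
    rw [h1, ← sl_lTensor, lTensor_cc, lTensor_antipode_of_fixed p v (hfix v hv),
      LinearMap.comp_apply, HopfAlgebra.antipode_one, AlgHom.toLinearMap_apply, map_one,
      sub_self, map_zero]
  have hgen_comul : ∀ v ∈ V, ∀ φ : B →ₗ[k] k,
      TensorProduct.map p.toLinearMap p.toLinearMap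
        (Coalgebra.comul (R := k) (sl φ (cc k A v))) = 0 := by
    intro v hv φ
    have h1 : TensorProduct.map p.toLinearMap p.toLinearMap
        (Coalgebra.comul (R := k) (sl φ (cc k A v))) =
        (TensorProduct.map p.toLinearMap p.toLinearMap ∘ₗ Coalgebra.comul (R := k) (A := A))
          (sl φ (cc k A v)) := rfl
    rw [h1, ← sl_lTensor, lTensor_cc, lTensor_map_comul_of_fixed p v (hfix v hv),
      LinearMap.comp_apply, Bialgebra.comul_one, Algebra.TensorProduct.one_def,
      TensorProduct.map_tmul, AlgHom.toLinearMap_apply, map_one, sub_self, map_zero]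
  have hspan : ∀ I : Ideal A, (∀ v ∈ V, ∀ φ : B →ₗ[k] k, sl φ (cc k A v) ∈ I) → K ≤ I := by
    intro I hI
    rw [hK]
    apply Ideal.span_le.mpr
    rintro a ⟨v, hv, φ, rfl⟩
    exact hI v hv φ
  have hK_counit : K ≤ RingHom.ker (Bialgebra.counitAlgHom k A) := by
    apply hspan
    intro v hv φ
    rw [RingHom.mem_ker]
    exact hgen_counit v hv φ
  have hK_anti : K ≤ RingHom.ker (p.comp (HopfAlgebra.antipodeAlgHom k A)) := by
    apply hspan
    intro v hv φ
    rw [RingHom.mem_ker]
    exact hgen_anti v hv φ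
  have hK_comul : K ≤ RingHom.ker ((Algebra.TensorProduct.map p p).comp
      (Bialgebra.comulAlgHom k A)) := by
    apply hspan
    intro v hv φ
    rw [RingHom.mem_ker]
    exact hgen_comul v hv φ
  subst hp
  refine { counit_eq_zero := ?_, map_mkQ_comul_eq_zero := ?_, antipode_mem := ?_ }
  · intro x hx
    have hx' : x ∈ K := hx
    have h1 := hK_counit hx'
    rw [RingHom.mem_ker] at h1
    exact h1
  · intro x hx
    have hx' : x ∈ K := hx
    have h1 := hK_comul hx'
    rw [RingHom.mem_ker] at h1
    exact h1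
  · intro x hx
    have h1 := hK_anti hx
    rw [RingHom.mem_ker] at h1
    exact Ideal.Quotient.eq_zero_iff_mem.mp h1

end Ideal

section Main

variable {k : Type u} [Field k] {A : Type u} [CommRing A] [HopfAlgebra k A]
variable {ι : Type u} [HopfRep.Comod k A (MvPolynomial ι k)]

/-- invariants of the subgroup generated by the pseudo-reflections -/
theorem quotInvariants_genIdeal :
    GLin.quotInvariants k A (MvPolynomial ι k) (GLin.genIdeal k A ι) =
      ⨅ (I : Ideal A) (_ : GLin.IsPseudoRefl k A ι I),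
        GLin.quotInvariants k A (MvPolynomial ι k) I := by
  apply le_antisymm
  · apply le_iInf
    intro I
    apply le_iInf
    intro hI
    apply quotInvariants_mono
    unfold GLin.genIdeal
    apply sSup_le
    intro J hJ
    exact hJ.2 I hI
  · intro v hv
    obtain ⟨W, hW⟩ : ∃ W : Submodule k (MvPolynomial ι k),
        W = ⨅ (I : Ideal A) (_ : GLin.IsPseudoRefl k A ι I),
          GLin.quotInvariants k A (MvPolynomial ι k) I := ⟨_, rfl⟩
    rw [← hW] at hv
    have hle : fixerIdeal k A (W : Set (MvPolynomial ι k)) ≤ GLin.genIdeal k A ι := by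
      unfold GLin.genIdeal
      apply le_sSup
      refine ⟨fixerIdeal_isHopfIdeal _, ?_⟩
      intro I hI
      apply fixerIdeal_le
      intro w hw
      have hw' : w ∈ W := hw
      rw [hW] at hw'
      have h2 := (Submodule.mem_iInf _).mp hw' I
      exact (Submodule.mem_iInf _).mp h2 hI
    have hvW : v ∈ (W : Set (MvPolynomial ι k)) := hv
    exact quotInvariants_mono hle (mem_quotInvariants_fixerIdeal hvW)

end Main

end Groth.Agent.Helper6.Fixer
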